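import Groth.Agent.L09.Stack.ClosedSub
import Groth.Agent.L24.St.DiagSep
import Groth.Agent.L24.St.Fibrewise

/-!
The equalizer of two objects over a separated representable functor is a closed subscheme of their base.
-/

set_option autoImplicit false
set_option backward.isDefEq.respectTransparency false
set_option backward.isDefEq.respectTransparency.types false

universe u

open CategoryTheory CategoryTheory.Limits AlgebraicGeometry Opposite AlgSt

noncomputable section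

namespace Groth.L09.ThetaOne

open Groth.L24.St

variable {S : Scheme.{u}} {𝒳 𝒴 : AlgSt.Cat S} {f : 𝒳 ⥤ᵇ 𝒴}

/-- Two objects with an isomorphism of their images agree on a closed subscheme of their base. -/
theorem exists_equalizer (h𝒳 : FibCat.IsFibGrpd 𝒳.p) (h𝒴 : FibCat.IsFibGrpd 𝒴.p)
    (hd : IsClosedImm (FibCat.diag f)) {x x' : 𝒳.obj} (g : f.obj x ≅ f.obj x') (hg : OverId g.hom) :
    ∃ (Z : Over S) (j : Z ⟶ 𝒳.p.obj x), IsClosedImmersion j.left ∧
      (∀ (z : 𝒳.obj) (α : z ⟶ x) (β : z ⟶ x'), f.map α ≫ g.hom = f.map β →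
        ∃ l : 𝒳.p.obj z ⟶ Z, l ≫ j = 𝒳.p.map α) ∧
      (IsIso j.left → ∃ m : x ⟶ x', OverId m ∧ f.map m = g.hom) := by
  have hfp : FibCat.IsFibGrpd (FibCat.fp f f).p := L09.Fib.fp_isFibGrpd h𝒳 h𝒳 h𝒴 (F := f) (G := f)
  let w : (FibCat.fp f f).obj := fpObj x x' g hg
  obtain ⟨G, φ, hφ⟩ := exists_overCat_functor (U := 𝒳.p.obj x) hfp w rfl
  obtain ⟨F, e, he, ha⟩ := hd (𝒳.p.obj x) G
  let U := 𝒳.p.obj x
  let pZ := ha.1.fst (𝟙 ((AlgSp.yon S).obj U))
  let jZ := ha.1.snd (𝟙 ((AlgSp.yon S).obj U))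
  have sq := ha.1.isPullback (𝟙 ((AlgSp.yon S).obj U))
  have hj : IsClosedImmersion jZ.left := Groth.L23.repWith_prop ha sq
  have : IsIso pZ := sq.isIso_fst_of_isIso
  have hpj : pZ ≫ spMapOfOver (BasedFunctor.comp e (FibCat.fpFst G (FibCat.diag f))) = (AlgSp.yon S).map jZ :=
    sq.w.trans (Category.comp_id _)
  refine ⟨_, jZ, hj, ?_, ?_⟩
  · intro z α β hαβ
    obtain ⟨σ, φz, hφz⟩ := exists_overCat_functor (U := 𝒳.p.obj z) h𝒳 z rfl
    let ψ : 𝒳.p.obj z ⟶ U := 𝒳.p.map α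
    let d : (FibCat.fp f f).obj := (FibCat.diag f).obj (σ.obj (idObj (𝒳.p.obj z)))
    let a : (FibCat.overCat U).obj := (overMap ψ).obj (idObj (𝒳.p.obj z))
    let k₁ : a ⟶ idObj U := Over.homMk ψ (by simp [a, overMap])
    -- the morphism to `w` lying over `ψ`
    let μ : d ⟶ w := fpHom (φz.hom ≫ α) (φz.hom ≫ β) (by
      change f.map (φz.hom ≫ α) ≫ g.hom = (𝟙 (f.obj _)) ≫ f.map (φz.hom ≫ β)
      rw [Category.id_comp, show f.map (φz.hom ≫ α) = f.map φz.hom ≫ f.map α from f.toFunctor.map_comp _ _,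
        show f.map (φz.hom ≫ β) = f.map φz.hom ≫ f.map β from f.toFunctor.map_comp _ _, Category.assoc, hαβ])
    have e₀ : (FibCat.fp f f).p.obj d = (FibCat.fp f f).p.obj (G.obj a) :=
      (σ.w_obj _).trans (G.w_obj a).symm
    obtain ⟨c, hc⟩ := hφ.eq
    obtain ⟨c', hc'⟩ := hφz.eq
    obtain ⟨i, hi, -⟩ := exists_iso_factor hfp μ (G.map k₁ ≫ φ.hom) e₀ (by
      change eqToHom e₀ ≫ (FibCat.fp f f).p.map (G.map k₁ ≫ φ.hom) = 𝒳.p.map (φz.hom ≫ α)
      rw [Functor.map_comp, Functor.map_comp, p_map_map G, hc, hc']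
      change eqToHom e₀ ≫ (eqToHom _ ≫ ψ ≫ eqToHom _) ≫ eqToHom c = _
      simp [ψ])
    obtain ⟨i', -⟩ := exists_iso_of_evalId hfp
      (G := BasedFunctor.comp σ (FibCat.diag f)) (H := BasedFunctor.comp (overMap ψ) G) i hi
    obtain ⟨s, hs⟩ := exists_section_of_lift he ψ σ i'
    obtain ⟨l, hl⟩ := (AlgSp.yon S).map_surjective (s ≫ inv pZ)
    refine ⟨l, (AlgSp.yon S).map_injective ?_⟩
    rw [Functor.map_comp, hl, Category.assoc, ← hpj, IsIso.inv_hom_id_assoc, hs]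
  · intro hiso
    have : IsIso jZ := by
      have : IsIso ((Over.forget S).map jZ) := hiso
      exact isIso_of_reflects_iso jZ (Over.forget S)
    obtain ⟨y, ⟨i⟩⟩ := exists_lift_of_section e (𝟙 U) ((AlgSp.yon S).map (inv jZ) ≫ pZ) (by
      rw [Category.assoc, hpj, ← Functor.map_comp, IsIso.inv_hom_id])
    let a : (FibCat.overCat U).obj := (overMap (𝟙 U)).obj (idObj U)
    let k : a ≅ idObj U := Over.isoMk (Iso.refl _) (by simp [a, overMap])
    let x'' := y.obj (idObj U)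
    let μ : (FibCat.diag f).obj x'' ≅ w := appIso i (idObj U) ≪≫ G.toFunctor.mapIso k ≪≫ φ
    let γ : x'' ≅ x := (CategoricalPullback.π₁ f.toFunctor f.toFunctor).mapIso
      ((ObjectProperty.ι _).mapIso μ)
    let δ : x'' ≅ x' := (CategoricalPullback.π₂ f.toFunctor f.toFunctor).mapIso
      ((ObjectProperty.ι _).mapIso μ)
    have hw : f.map γ.hom ≫ g.hom = 𝟙 _ ≫ f.map δ.hom := μ.hom.hom.w
    rw [Category.id_comp] at hw
    have e₁ : f.map (γ.inv ≫ δ.hom) = g.hom := by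
      rw [show f.map (γ.inv ≫ δ.hom) = f.map γ.inv ≫ f.map δ.hom from f.toFunctor.map_comp _ _, ← hw,
        ← Category.assoc, ← show f.map (γ.inv ≫ γ.hom) = f.map γ.inv ≫ f.map γ.hom from f.toFunctor.map_comp _ _,
        Iso.inv_hom_id, show f.map (𝟙 x) = 𝟙 _ from f.toFunctor.map_id _, Category.id_comp]
    refine ⟨γ.inv ≫ δ.hom, ?_, e₁⟩
    obtain ⟨b, hb⟩ := hg.eq
    have h := congrArg 𝒴.p.map e₁
    rw [p_map_map f, hb] at h
    refine OverId.of_eq ((f.w_obj x).symm.trans (b.trans (f.w_obj x'))) ?_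
    have h' := congrArg (fun t => eqToHom (f.w_obj x).symm ≫ t ≫ eqToHom (f.w_obj x')) h
    simpa using h'

end Groth.L09.ThetaOne
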