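import Groth.Agent.L09.ThetaOne.Equalizer
import Groth.Agent.L26.Theta.Lift

/-!
Dotted arrows of a square over a separated representable functor agree on a closed substack.
-/

set_option autoImplicit false
set_option backward.isDefEq.respectTransparency false
set_option backward.isDefEq.respectTransparency.types false

universe u

open CategoryTheory CategoryTheory.Limits AlgebraicGeometry Opposite

noncomputable section

namespace Groth.L09.ThetaOne

open Groth.L24.St

variable {S : Scheme.{u}} {𝒜 ℬ 𝒳 𝒴 : AlgSt.Cat S} {j : 𝒜 ⥤ᵇ ℬ} {f : 𝒳 ⥤ᵇ 𝒴} {sq : LiftSq.Sq j f}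

/-- The two dotted arrows agree at `A`. -/
def Good (d d' : sq.Lift) (A : ℬ.obj) : Prop :=
  ∃ m : d.fn.obj A ⟶ d'.fn.obj A, OverId m ∧
    d.isoBot.hom.toNatTrans.app A ≫ f.map m = d'.isoBot.hom.toNatTrans.app A

variable {d d' : sq.Lift}

theorem bot_naturality (d : sq.Lift) {B A : ℬ.obj} (v : B ⟶ A) :
    sq.bot.map v ≫ d.isoBot.hom.toNatTrans.app A = d.isoBot.hom.toNatTrans.app B ≫ f.map (d.fn.map v) :=
  appIso_naturality d.isoBot v

theorem good_pullback (h𝒳 : FibCat.IsFibGrpd 𝒳.p) (h𝒴 : FibCat.IsFibGrpd 𝒴.p) {B A : ℬ.obj} (v : B ⟶ A)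
    (h : Good d d' A) : Good d d' B := by
  obtain ⟨m, hm, hmA⟩ := h
  have e : 𝒳.p.obj (d.fn.obj B) = 𝒳.p.obj (d'.fn.obj B) := (d.fn.w_obj B).trans (d'.fn.w_obj B).symm
  obtain ⟨a, ha⟩ := hm.eq
  obtain ⟨χ, hχ, hc⟩ := exists_factor h𝒳 (d.fn.map v ≫ m) (d'.fn.map v) (eqToHom e)
    (by simp [p_map_map, ha])
  have hχ' : OverId χ := OverId.of_eq e hχ
  refine ⟨χ, hχ', ext_of_comp_eq h𝒴 (f.map (d'.fn.map v)) ?_ ?_⟩
  · obtain ⟨b, hb⟩ := ((overId_app d.isoBot.hom B).comp (hχ'.map f)).eq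
    obtain ⟨c, hc'⟩ := (overId_app d'.isoBot.hom B).eq
    rw [hb, hc']
  · rw [Category.assoc, ← show f.map (χ ≫ d'.fn.map v) = f.map χ ≫ f.map (d'.fn.map v) from
      f.toFunctor.map_comp _ _, hc,
      show f.map (d.fn.map v ≫ m) = f.map (d.fn.map v) ≫ f.map m from f.toFunctor.map_comp _ _,
      ← Category.assoc, ← bot_naturality d v, Category.assoc, hmA, bot_naturality d' v]

theorem good_top (d d' : sq.Lift) (T : 𝒜.obj) : Good d d' (j.obj T) := by
  refine ⟨(appIso d.isoTop T).hom ≫ (appIso d'.isoTop T).inv,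
    (overId_app d.isoTop.hom T).comp (overId_app d'.isoTop.inv T), ?_⟩
  rw [show f.map ((appIso d.isoTop T).hom ≫ (appIso d'.isoTop T).inv) =
    f.map (appIso d.isoTop T).hom ≫ f.map (appIso d'.isoTop T).inv from f.toFunctor.map_comp _ _]
  change d.isoBot.hom.toNatTrans.app (j.obj T) ≫ f.map (d.isoTop.hom.toNatTrans.app T) ≫ _ = _
  rw [← Category.assoc, Groth.Agent.ThetaL.lift_w_app d T, ← Groth.Agent.ThetaL.lift_w_app d' T, Category.assoc,
    show d'.isoTop.hom.toNatTrans.app T = (appIso d'.isoTop T).hom from rfl,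
    ← show f.map ((appIso d'.isoTop T).hom ≫ (appIso d'.isoTop T).inv) = f.map (appIso d'.isoTop T).hom ≫
      f.map (appIso d'.isoTop T).inv from f.toFunctor.map_comp _ _, Iso.hom_inv_id]
  exact (congrArg _ (f.toFunctor.map_id _)).trans (Category.comp_id _)

/-- The locus where the two dotted arrows agree. -/
theorem exists_agree (h𝒳 : FibCat.IsFibGrpd 𝒳.p) (h𝒴 : FibCat.IsFibGrpd 𝒴.p)
    (hd : AlgSt.IsClosedImm (FibCat.diag f)) (d d' : sq.Lift) (A : ℬ.obj) :
    ∃ (Z : Over S) (i : Z ⟶ ℬ.p.obj A), IsClosedImmersion i.left ∧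
      (∀ (B : ℬ.obj) (v : B ⟶ A), Good d d' B → ∃ l : ℬ.p.obj B ⟶ Z, l ≫ i = ℬ.p.map v) ∧
      (IsIso i.left → Good d d' A) := by
  let g : f.obj (d.fn.obj A) ≅ f.obj (d'.fn.obj A) := (appIso d.isoBot A).symm ≪≫ appIso d'.isoBot A
  obtain ⟨Z, i, hi, hlift, hiso⟩ := exists_equalizer h𝒳 h𝒴 hd g
    ((overId_app d.isoBot.inv A).comp (overId_app d'.isoBot.hom A))
  let E := eqToHom (d.fn.w_obj A)
  have : IsIso E.left := inferInstanceAs (IsIso ((Over.forget S).map E))
  refine ⟨Z, i ≫ E, ?_, ?_, ?_⟩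
  · rw [Over.comp_left]; infer_instance
  · rintro B v ⟨m, hm, hmB⟩
    obtain ⟨l, hl⟩ := hlift (d.fn.obj B) (d.fn.map v) (m ≫ d'.fn.map v) (by
      rw [show f.map (m ≫ d'.fn.map v) = f.map m ≫ f.map (d'.fn.map v) from f.toFunctor.map_comp _ _]
      refine (cancel_epi (appIso d.isoBot B).hom).1 ?_
      change d.isoBot.hom.toNatTrans.app B ≫ f.map (d.fn.map v) ≫ g.hom =
        d.isoBot.hom.toNatTrans.app B ≫ f.map m ≫ f.map (d'.fn.map v)
      rw [← Category.assoc, ← bot_naturality d v, Category.assoc, reassoc_of% hmB, ← bot_naturality d' v]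
      congr 1
      exact Iso.hom_inv_id_assoc (appIso d.isoBot A) _)
    refine ⟨eqToHom (d.fn.w_obj B).symm ≫ l, ?_⟩
    rw [Category.assoc, reassoc_of% hl, p_map_map d.fn]
    simp [E]
  · intro h
    rw [Over.comp_left] at h
    have := h
    have : IsIso i.left := IsIso.of_isIso_comp_right i.left E.left
    obtain ⟨m, hm, hmA⟩ := hiso inferInstance
    refine ⟨m, hm, ?_⟩
    rw [hmA]
    exact Iso.hom_inv_id_assoc (appIso d.isoBot A) _

variable (hF : f.toFunctor.Faithful)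

include hF in
theorem unique_hom (hgood : ∀ A, Good d d' A) : Nonempty (Unique (d ⟶ d')) := by
  choose m hm hmA using hgood
  let η : d.fn ⟶ d'.fn :=
    { app := m
      naturality := fun B A v => by
        apply hF.map_injective
        refine (cancel_epi (appIso d.isoBot B).hom).1 ?_
        rw [Functor.map_comp, Functor.map_comp]
        change d.isoBot.hom.toNatTrans.app B ≫ f.map (d.fn.map v) ≫ f.map (m A) =
          d.isoBot.hom.toNatTrans.app B ≫ f.map (m B) ≫ f.map (d'.fn.map v)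
        rw [← Category.assoc, ← bot_naturality d v, Category.assoc, hmA, reassoc_of% (hmA B), bot_naturality d' v]
      isHomLift' := fun A => (hm A).lift (d.fn.w_obj A) }
  refine ⟨⟨⟨⟨η, ?_, Groth.Agent.ThetaL.hext hmA⟩⟩, fun θ => ?_⟩⟩
  · refine Groth.Agent.ThetaL.hext fun T => ?_
    apply hF.map_injective
    change f.map (m (j.obj T) ≫ d'.isoTop.hom.toNatTrans.app T) = f.map (d.isoTop.hom.toNatTrans.app T)
    refine (cancel_epi (appIso d.isoBot (j.obj T)).hom).1 ?_
    rw [show f.map (m (j.obj T) ≫ d'.isoTop.hom.toNatTrans.app T) =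
      f.map (m (j.obj T)) ≫ f.map (d'.isoTop.hom.toNatTrans.app T) from f.toFunctor.map_comp _ _]
    exact (reassoc_of% (hmA (j.obj T))) _ |>.trans
      ((Groth.Agent.ThetaL.lift_w_app d' T).trans (Groth.Agent.ThetaL.lift_w_app d T).symm)
  · refine LiftSq.Sq.Lift.hom_ext (Groth.Agent.ThetaL.hext fun A => ?_)
    apply hF.map_injective
    refine (cancel_epi (appIso d.isoBot A).hom).1 ?_
    exact (Groth.Agent.ThetaL.hom_bot_app θ A).trans (hmA A).symm

end Groth.L09.ThetaOne
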