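import Groth.Agent.L09.ThetaOne.Good
import Groth.Agent.L11.ThetaAff.Inst

/-!
The point one is dense in the quotient stack of the line by the multiplicative group.
-/

set_option autoImplicit false
set_option backward.isDefEq.respectTransparency false
set_option backward.isDefEq.respectTransparency.types false

universe u

open CategoryTheory CategoryTheory.Limits MonoidalCategory CartesianMonoidalCategory MonObj AlgebraicGeometry Opposite
open scoped Polynomial LaurentPolynomial

noncomputable section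

namespace Groth.L09.ThetaOne

open Groth.L24.St Groth.L11.ThetaAff

attribute [local instance] hasIsos_fppf

variable (R : Type u) [CommRing R]

theorem finitePresentation_lau : Algebra.FinitePresentation R (ThetaS.Lau R) := by
  have : Algebra.FinitePresentation R[X] R[T;T⁻¹] :=
    RingHom.finitePresentation_algebraMap.mp
      (RingHom.finitePresentation_holdsForLocalizationAway.{u} R[T;T⁻¹] Polynomial.X)
  have : IsScalarTower R R[X] R[T;T⁻¹] := IsScalarTower.of_algebraMap_eq fun r => by simp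
  have := Algebra.FinitePresentation.trans R R[X] R[T;T⁻¹]
  exact Algebra.FinitePresentation.equiv (AddMonoidAlgebra.toMultiplicativeAlgEquiv R R ℤ)

theorem lfp_gm : LocallyOfFinitePresentation (ThetaS.Gm R).hom := by
  rw [gm_hom_eq, HasRingHomProperty.Spec_iff (P := @LocallyOfFinitePresentation)]
  exact RingHom.finitePresentation_algebraMap.mpr (finitePresentation_lau R)

theorem aeval_zPow_injective : Function.Injective (Polynomial.aeval (ThetaS.zPow R 1) : R[X] →ₐ[R] ThetaS.Lau R) := by
  have key : ∀ (p : R[X]) (n : ℕ),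
      (Polynomial.aeval (ThetaS.zPow R 1) p).coeff (Multiplicative.ofAdd (n : ℤ)) = p.coeff n := by
    intro p n
    induction p using Polynomial.induction_on' with
    | add p q hp hq => simp [hp, hq]
    | monomial k a =>
      rw [Polynomial.aeval_monomial, Polynomial.coeff_monomial]
      simp [MonoidAlgebra.single_pow, MonoidAlgebra.single_mul_single, Finsupp.single_apply, ← ofAdd_nsmul]
  intro p q h
  ext n
  rw [← key p n, ← key q n, h]

/-- A morphism to the affine line injective on functions factors through no proper closed subscheme. -/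
theorem isIso_of_spec_factor {A B : Type u} [CommRing A] [CommRing B] {φ : A →+* B} (hφ : Function.Injective φ)
    {Z : Scheme.{u}} (i : Z ⟶ Spec (CommRingCat.of A)) [IsClosedImmersion i] (l : Spec (CommRingCat.of B) ⟶ Z)
    (e : l ≫ i = Spec.map (CommRingCat.ofHom φ)) : IsIso i := by
  apply IsClosedImmersion.isIso_of_injective_of_isAffine
  intro a b hab
  apply (Scheme.ΓSpecIso (CommRingCat.of A)).commRingCatIsoToRingEquiv.injective
  apply hφ
  have h1 := congrArg (fun t => (Scheme.ΓSpecIso (CommRingCat.of B)).hom (l.appTop t)) hab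
  have h2 : ∀ t, (Scheme.ΓSpecIso (CommRingCat.of B)).hom (l.appTop (i.appTop t)) =
      φ ((Scheme.ΓSpecIso (CommRingCat.of A)).hom t) := fun t => by
    have h3 := Scheme.ΓSpecIso_naturality (CommRingCat.ofHom φ)
    rw [← e, Scheme.Hom.comp_appTop, Category.assoc] at h3
    exact congrArg (fun k : Γ(Spec (CommRingCat.of A), ⊤) ⟶ CommRingCat.of B => k t) h3
  rw [h2, h2] at h1
  exact h1

theorem onePt_pt :
    (Over.homMk ((ThetaS.Gm R).hom ≫ ThetaS.onePt R)
      (by rw [Category.assoc, ThetaS.onePt_hom, Category.comp_id]) : ThetaS.Gm R ⟶ ThetaS.Line R) =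
      CoactBr.pt (ThetaS.linePt (1 : ThetaS.Lau R)) := by
  apply Over.OverMorphism.ext
  change (ThetaS.Gm R).hom ≫ (CoactBr.pt (ThetaS.lineOne R)).left = _
  rw [gm_hom_eq, CoactBr.pt_left, CoactBr.pt_left, ← Spec.map_comp]
  congr 1
  apply CommRingCat.hom_ext
  apply Polynomial.ringHom_ext <;> simp [MonoidAlgebra.one_def]

section Main

variable {R} {S : Scheme.{u}} {𝒳 𝒴 : AlgSt.Cat S} {f : 𝒳 ⥤ᵇ 𝒴} (h : Spec (CommRingCat.of R) ⟶ S)

theorem liftsUnique_thetaOne (h𝒳 : FibCat.IsFibGrpd 𝒳.p) (h𝒴 : FibCat.IsFibGrpd 𝒴.p)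
    (hd : AlgSt.IsClosedImm (FibCat.diag f)) (hF : f.toFunctor.Faithful) :
    LiftSq.LiftsUnique (ThetaS.thetaOne Scheme.fppfPrecoverage R h) f := by
  intro sq d d'
  refine unique_hom hF fun A => ?_
  let aX := ThetaS.lineAction R
  let x₁ : ThetaS.Gm R ⟶ ThetaS.Line R := Over.homMk ((ThetaS.Gm R).hom ≫ ThetaS.onePt R)
    (by rw [Category.assoc, ThetaS.onePt_hom, Category.comp_id])
  let s : ThetaS.Gm R ⟶ ThetaS.Gm R ⊗ ThetaS.Line R := lift (𝟙 _) x₁
  let A₀ : (ThetaS.Theta Scheme.fppfPrecoverage R h).obj := triv aX (ThetaS.Line R) (𝟙 _)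
  let B₀ : (ThetaS.Theta Scheme.fppfPrecoverage R h).obj :=
    (ThetaS.thetaOne Scheme.fppfPrecoverage R h).obj (ThetaS.Gm R)
  have hB₀ : Good d d' B₀ := good_top d d' (ThetaS.Gm R)
  let v : B₀ ⟶ A₀ :=
    (trivMap aX s (snd _ _) x₁ (lift_snd _ _) ≫ shearHom aX ≫ trivMap aX aX.act (𝟙 _) aX.act (Category.comp_id _) :
      triv aX (ThetaS.Gm R) x₁ ⟶ triv aX (ThetaS.Line R) (𝟙 _))
  have hbase : s ≫ aX.act = CoactBr.pt (ThetaS.linePt (ThetaS.zPow R 1)) := by
    have e := ThetaS.lineAction_pt (AlgHom.id R (ThetaS.Lau R)) 1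
    rw [← onePt_pt R, CoactBr.pt_id, AlgHom.id_apply, _root_.mul_one] at e
    exact e
  have hA₀ : Good d d' A₀ := by
    obtain ⟨Z, i, hi, hlift, hiso⟩ := exists_agree h𝒳 h𝒴 hd d d' A₀
    obtain ⟨l, hl⟩ := hlift B₀ v hB₀
    have hv : ((ThetaS.Theta Scheme.fppfPrecoverage R h).p.map v).left = (s ≫ aX.act).left := by
      change (s ≫ 𝟙 _ ≫ aX.act).left = _
      rw [Category.id_comp]
    have hl' : l.left ≫ i.left = Spec.map (CommRingCat.ofHom (ThetaS.linePt (ThetaS.zPow R 1)).toRingHom) := by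
      rw [← CoactBr.pt_left, ← hbase, ← hv, ← hl, Over.comp_left]
    have : @IsClosedImmersion Z.left (Spec (CommRingCat.of R[X])) i.left := hi
    exact hiso (isIso_of_spec_factor (aeval_zPow_injective R) i.left l.left hl')
  obtain ⟨Z, i, hi, hlift, hiso⟩ := exists_agree h𝒳 h𝒴 hd d d' A
  let B : (ThetaS.Theta Scheme.fppfPrecoverage R h).obj := triv aX A.P A.φ
  have hB : Good d d' B :=
    good_pullback h𝒳 h𝒴 (show B ⟶ A₀ from trivMap aX A.φ (𝟙 _) A.φ (Category.comp_id _)) hA₀
  obtain ⟨l, hl⟩ := hlift B (show B ⟶ A from coverHom aX A) hB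
  have : IsAffineHom (ThetaS.Gm R).hom := isAffineHom_gm R
  have : Flat (ThetaS.Gm R).hom := flat_gm R
  have : LocallyOfFinitePresentation (ThetaS.Gm R).hom := lfp_gm R
  obtain ⟨hflat, -, hsurj⟩ := torsor_fppf aX A
  have hl' : l.left ≫ i.left = A.π.left := congrArg CommaMorphism.left hl
  have : @IsClosedImmersion Z.left A.base.left i.left := hi
  exact hiso (Stack.isIso_of_flat_surjective_factor i.left l.left A.π.left hl')

end Main

end Groth.L09.ThetaOne
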